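import Groth.Agent.Lib.DiscNoether25.OmegaFlat
import Groth.Prelude.Def_QFDual

/-!
Base change for the finite dualizing module `Disc.Omega` and the maps `QFDual.bcFin`, `QFDual.omegaBC`.
-/

universe u

open TensorProduct
open scoped Groth.Agent.DiscNoether25

namespace Groth.Agent.QFBC1

section abstract

variable {R R' S S' M N : Type u} [CommRing R] [CommRing R'] [CommRing S] [CommRing S']
  [Algebra R R'] [Algebra R S] [Algebra R' S'] [Algebra S S'] [Algebra R S']
  [IsScalarTower R R' S'] [IsScalarTower R S S']
  [AddCommGroup M] [Module S M] [Module R M] [IsScalarTower R S M]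
  [AddCommGroup N] [Module S' N] [Module R' N] [IsScalarTower R' S' N]
  [Module S N] [IsScalarTower S S' N] [Module R N] [IsScalarTower R S N] [IsScalarTower R R' N]

/-- A base change along `R → R'` of an `S`-linear map is a base change along `S → S ⊗ R'`. -/
theorem isBaseChange_of_pushout (h : Algebra.IsPushout R R' S S') (f : M →ₗ[S] N)
    (hf : IsBaseChange R' (f.restrictScalars R)) : IsBaseChange S' f := by
  haveI := h
  let c := Algebra.IsPushout.cancelBaseChange R R' S S' M
  have hc : ∀ z, f.liftBaseChange S' (c.symm z) = hf.equiv z := fun z => by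
    induction z using TensorProduct.induction_on with
    | zero => simp
    | add z z' hz hz' => simp only [map_add, hz, hz']
    | tmul r m =>
      rw [Algebra.IsPushout.cancelBaseChange_symm_tmul, LinearMap.liftBaseChange_tmul,
        IsBaseChange.equiv_tmul, algebraMap_smul]
      rfl
  have hbij : Function.Bijective (f.liftBaseChange S') := by
    have h1 : Function.Bijective (f.liftBaseChange S' ∘ c.symm) := by
      rw [show (f.liftBaseChange S' ∘ c.symm) = hf.equiv from funext hc]
      exact hf.equiv.bijective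
    exact (Function.Bijective.of_comp_iff _ c.symm.bijective).1 h1
  exact IsBaseChange.of_equiv (LinearEquiv.ofBijective _ hbij) fun m => by simp

end abstract

variable {A B' A₁ B'₁ : Type u} [CommRing A] [CommRing B'] [CommRing A₁] [CommRing B'₁]
  [Algebra A B'] [Algebra A A₁] [Algebra B' B'₁] [Algebra A₁ B'₁] [Algebra A B'₁]
  [IsScalarTower A A₁ B'₁] [IsScalarTower A B' B'₁]

/-- For a flat base change, the dual of a finitely presented algebra base changes. -/
theorem isBaseChange_toDual_of_flat (h : Algebra.IsPushout A A₁ B' B'₁) [Module.Flat A A₁]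
    [Module.FinitePresentation A B'] : IsBaseChange A₁ h.out.toDual := by
  refine IsBaseChange.of_equiv ((DiscNoether25.isBaseChange_dual (A := A) (B := B') (A' := A₁)).equiv.trans
    (Module.Dual.congr h.out.equiv)) fun f => ?_
  rw [LinearEquiv.trans_apply, IsBaseChange.equiv_tmul, one_smul, IsBaseChange.toDual_apply]

/-- `bcFin` is a base change along `B' → B'₁`. -/
theorem exists_bcFin_equiv (h : Algebra.IsPushout A A₁ B' B'₁) (hd : IsBaseChange A₁ h.out.toDual) :
    ∃ e : B'₁ ⊗[B'] Disc.Omega A B' ≃ₗ[B'₁] Disc.Omega A₁ B'₁,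
      ∀ φ, e (1 ⊗ₜ φ) = QFDual.bcFin h φ := by
  letI : Module B' (Disc.Omega A₁ B'₁) := Module.compHom _ (algebraMap B' B'₁)
  haveI : IsScalarTower B' B'₁ (Disc.Omega A₁ B'₁) :=
    IsScalarTower.of_algebraMap_smul fun _ _ => rfl
  letI : Module A (Disc.Omega A₁ B'₁) := Module.compHom _ (algebraMap A A₁)
  haveI : IsScalarTower A A₁ (Disc.Omega A₁ B'₁) :=
    IsScalarTower.of_algebraMap_smul fun _ _ => rfl
  haveI : IsScalarTower A B' (Disc.Omega A₁ B'₁) := IsScalarTower.of_algebraMap_smul fun a φ => by
    change algebraMap B' B'₁ (algebraMap A B' a) • φ = algebraMap A₁ B'₁ (algebraMap A A₁ a) • φ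
    rw [← IsScalarTower.algebraMap_apply, ← IsScalarTower.algebraMap_apply]
  let f : Disc.Omega A B' →ₗ[B'] Disc.Omega A₁ B'₁ :=
    { toFun := QFDual.bcFin h
      map_add' := map_add _
      map_smul' := fun b φ => LinearMap.map_smulₛₗ (QFDual.bcFin h) b φ }
  have hf : IsBaseChange A₁ (f.restrictScalars A) :=
    IsBaseChange.of_equiv
      ((LinearEquiv.baseChange A A₁ _ _ (DiscNoether25.omegaEquiv (A := A) (B := B'))).trans
        (hd.equiv.trans (DiscNoether25.omegaEquiv (A := A₁) (B := B'₁)).symm)) fun φ => by
      rw [LinearEquiv.trans_apply, LinearEquiv.trans_apply]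
      erw [IsBaseChange.equiv_tmul]
      exact (congrArg _ (one_smul A₁ _)).trans rfl
  have hS := isBaseChange_of_pushout h f hf
  refine ⟨hS.equiv, fun φ => ?_⟩
  rw [IsBaseChange.equiv_tmul, one_smul]
  rfl

/-- The base change map of the dualizing module is bijective when `bcFin` is a base change. -/
theorem omegaBC_bijective (h : Algebra.IsPushout A A₁ B' B'₁) (hd : IsBaseChange A₁ h.out.toDual)
    {B₁ : Type u} [CommRing B₁] [Algebra B'₁ B₁] [Algebra B' B₁] [IsScalarTower B' B'₁ B₁] :
    Function.Bijective (QFDual.omegaBC (B₁ := B₁) h) := by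
  obtain ⟨e, he⟩ := exists_bcFin_equiv h hd
  let E := (AlgebraTensorModule.cancelBaseChange B' B'₁ B₁ B₁ (Disc.Omega A B')).symm.trans
    (AlgebraTensorModule.congr (LinearEquiv.refl B₁ B₁) e)
  have hE : ∀ z, QFDual.omegaBC (B₁ := B₁) h z = E z := fun z => by
    induction z using TensorProduct.induction_on with
    | zero => simp
    | add z z' hz hz' => simp only [map_add, hz, hz']
    | tmul b φ => simp [E, he]
  rw [show (QFDual.omegaBC (B₁ := B₁) h : _ → _) = E from funext hE]
  exact E.bijective

end Groth.Agent.QFBC1
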