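import Groth.Agent.Lib.QFBC1.Basic
import Groth.Agent.Lib.DiscNoether25.Norm
import Mathlib.RingTheory.LocalRing.Module
import Mathlib.LinearAlgebra.Trace
import Mathlib.RingTheory.PicardGroup

/-!
The different `QFDual.different` under base change.
-/

universe u

open TensorProduct

namespace Groth.Agent.QFBC1

section module

variable {R S : Type u} [CommRing R] [CommRing S] [Algebra R S] {M : Type u} [AddCommGroup M]
  [Module R M]

theorem different_congr {N : Type u} [AddCommGroup N] [Module R N] (e : M ≃ₗ[R] N) (τ : M) :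
    QFDual.different R (e τ) = QFDual.different R τ := by
  ext r
  rw [QFDual.mem_different_iff, QFDual.mem_different_iff]
  constructor
  · intro h m
    obtain ⟨c, hc⟩ := h (e m)
    exact ⟨c, e.injective (by simpa using hc)⟩
  · intro h n
    obtain ⟨c, hc⟩ := h (e.symm n)
    exact ⟨c, by simpa using congrArg e hc⟩

theorem map_different_le (τ : M) :
    (QFDual.different R τ).map (algebraMap R S) ≤ QFDual.different S ((1 : S) ⊗ₜ[R] τ) := by
  rw [Ideal.map_le_iff_le_comap]
  intro r hr
  rw [Ideal.mem_comap, QFDual.mem_different_iff]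
  rw [QFDual.mem_different_iff] at hr
  intro x
  induction x using TensorProduct.induction_on with
  | zero => exact ⟨0, by simp⟩
  | add x y hx hy =>
    obtain ⟨a, ha⟩ := hx
    obtain ⟨b, hb⟩ := hy
    exact ⟨a + b, by rw [add_smul, ha, hb, smul_add]⟩
  | tmul s m =>
    obtain ⟨c, hc⟩ := hr m
    refine ⟨c • s, ?_⟩
    rw [TensorProduct.smul_tmul', smul_eq_mul, mul_one, TensorProduct.smul_tmul', smul_eq_mul,
      TensorProduct.smul_tmul, hc, ← TensorProduct.smul_tmul, Algebra.smul_def]

theorem map_different_of_flat [Module.Flat R S] [Module.Finite R M] (τ : M) :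
    (QFDual.different R τ).map (algebraMap R S) = QFDual.different S ((1 : S) ⊗ₜ[R] τ) := by
  classical
  refine le_antisymm (map_different_le τ) fun r hr => ?_
  obtain ⟨n, m, hm⟩ := Module.Finite.exists_fin (R := R) (M := M)
  let N := M ⧸ (R ∙ τ)
  let g : R →ₗ[R] (Fin n → N) :=
    LinearMap.pi fun i => LinearMap.toSpanSingleton R N (Submodule.mkQ _ (m i))
  have hK : ∀ k ∈ LinearMap.ker g, k ∈ QFDual.different R τ := fun k hk => by
    rw [QFDual.different, Submodule.mem_colon]
    intro x _
    have hx : x ∈ Submodule.span R (Set.range m) := hm ▸ Submodule.mem_top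
    refine Submodule.span_induction (p := fun x _ => k • x ∈ R ∙ τ) ?_ (by simp)
      (fun x y _ _ hx hy => by rw [smul_add]; exact add_mem hx hy)
      (fun c x _ hx => by rw [smul_comm]; exact Submodule.smul_mem _ c hx) hx
    rintro _ ⟨i, rfl⟩
    rw [← Submodule.Quotient.mk_eq_zero, Submodule.Quotient.mk_smul]
    exact congrFun (LinearMap.mem_ker.1 hk) i
  have hex : Function.Exact ((LinearMap.ker g).subtype.lTensor S) (g.lTensor S) :=
    Module.Flat.lTensor_exact S (LinearMap.exact_subtype_ker_map g)
  have h0 : g.lTensor S (r ⊗ₜ[R] (1 : R)) = 0 := by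
    apply (TensorProduct.piRight R S S fun _ : Fin n => N).injective
    rw [map_zero]
    ext i
    rw [LinearMap.lTensor_tmul, TensorProduct.piRight_apply]
    simp only [TensorProduct.piRightHom_tmul, Pi.zero_apply]
    rw [QFDual.mem_different_iff] at hr
    obtain ⟨c, hc⟩ := hr ((1 : S) ⊗ₜ m i)
    have := congrArg ((Submodule.mkQ (R ∙ τ)).lTensor S) hc
    rw [TensorProduct.smul_tmul', TensorProduct.smul_tmul', smul_eq_mul, smul_eq_mul, mul_one,
      mul_one, LinearMap.lTensor_tmul, LinearMap.lTensor_tmul] at this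
    rw [show g 1 i = Submodule.mkQ (R ∙ τ) (m i) by simp [g, N], ← this,
      show Submodule.mkQ (R ∙ τ) τ = 0 from
        (Submodule.Quotient.mk_eq_zero _).2 (Submodule.mem_span_singleton_self τ), tmul_zero]
  obtain ⟨z, hz⟩ := (hex _).1 h0
  have key : ∀ z : S ⊗[R] LinearMap.ker g,
      (TensorProduct.rid R S) ((LinearMap.ker g).subtype.lTensor S z) ∈
        (QFDual.different R τ).map (algebraMap R S) := fun z => by
    induction z using TensorProduct.induction_on with
    | zero => simp
    | tmul a k =>
      rw [LinearMap.lTensor_tmul, TensorProduct.rid_tmul, Algebra.smul_def]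
      exact Ideal.mul_mem_right _ _ (Ideal.mem_map_of_mem _ (hK _ k.2))
    | add x y hx hy => rw [map_add, map_add]; exact add_mem hx hy
  have := key z
  rwa [hz, TensorProduct.rid_tmul, one_smul] at this

theorem map_different_of_invertible [Module.Invertible R M] (τ : M) :
    (QFDual.different R τ).map (algebraMap R S) = QFDual.different S ((1 : S) ⊗ₜ[R] τ) := by
  refine le_antisymm (map_different_le τ) fun r hr => ?_
  rw [QFDual.mem_different_iff] at hr
  have key : ∀ z : Module.Dual R M ⊗[R] M,
      r * algebraMap R S ((Module.Invertible.linearEquiv R M) z) ∈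
        (QFDual.different R τ).map (algebraMap R S) := fun z => by
    induction z using TensorProduct.induction_on with
    | zero => simp
    | add x y hx hy => rw [map_add, map_add, mul_add]; exact add_mem hx hy
    | tmul ψ m =>
      obtain ⟨c, hc⟩ := hr ((1 : S) ⊗ₜ m)
      let φ : S ⊗[R] M →ₗ[S] S := Module.Dual.baseChange S ψ
      have hφ : ∀ x, φ ((1 : S) ⊗ₜ x) = algebraMap R S (ψ x) := fun x => by
        simp [φ, Algebra.algebraMap_eq_smul_one]
      have h2 := congrArg φ hc
      rw [map_smul, map_smul, hφ, hφ, smul_eq_mul, smul_eq_mul] at h2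
      rw [show (Module.Invertible.linearEquiv R M) (ψ ⊗ₜ[R] m) = ψ m from contractLeft_apply ψ m, ← h2]
      refine Ideal.mul_mem_left _ _ (Ideal.mem_map_of_mem _ ?_)
      rw [QFDual.mem_different_iff]
      exact fun x => ⟨ψ x, (DiscNoether25.smul_comm_of_invertible ψ τ x).symm⟩
  have := key ((Module.Invertible.linearEquiv R M).symm 1)
  rwa [LinearEquiv.apply_symm_apply, map_one, mul_one] at this

theorem exists_linearMap_field_ne_zero [Module.Finite R M] (q : PrimeSpectrum R)
    (hq : q ∈ Module.support R M) (K : Type u) [Field K] [Algebra R K]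
    (hK : RingHom.ker (algebraMap R K) = q.asIdeal) :
    ∃ f : M →ₗ[R] K, f ≠ 0 := by
  rw [Module.mem_support_iff_nontrivial_residueField_tensorProduct] at hq
  let ι : q.asIdeal.ResidueField →ₐ[R] K := Ideal.ResidueField.liftₐ q.asIdeal (Algebra.ofId R K)
    (fun x hx => by rw [← hK] at hx; exact hx)
    (fun x hx => IsUnit.mk0 _ fun h => hx (by rw [← hK]; exact h))
  obtain ⟨v, hv⟩ := exists_ne (0 : q.asIdeal.ResidueField ⊗[R] M)
  obtain ⟨δ, hδ⟩ : ∃ δ : Module.Dual q.asIdeal.ResidueField (q.asIdeal.ResidueField ⊗[R] M), δ v ≠ 0 := by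
    by_contra h
    push Not at h
    exact hv ((Module.forall_dual_apply_eq_zero_iff _ v).1 h)
  refine ⟨ι.toLinearMap.comp ((δ.restrictScalars R).comp
    (TensorProduct.mk R q.asIdeal.ResidueField M 1)), fun h => hδ ?_⟩
  have h1 : ∀ m, δ ((1 : q.asIdeal.ResidueField) ⊗ₜ m) = 0 := fun m =>
    ι.toRingHom.injective (by rw [map_zero]; exact LinearMap.congr_fun h m)
  suffices ∀ w, δ w = 0 from this v
  intro w
  induction w using TensorProduct.induction_on with
  | zero => simp
  | add x y hx hy => rw [map_add, hx, hy, add_zero]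
  | tmul a m =>
    rw [← mul_one a, ← smul_eq_mul, ← TensorProduct.smul_tmul', map_smul, h1, smul_zero]

theorem radical_map_different [Module.Finite R M] (τ : M) :
    ((QFDual.different R τ).map (algebraMap R S)).radical =
      (QFDual.different S ((1 : S) ⊗ₜ[R] τ)).radical := by
  refine le_antisymm (Ideal.radical_mono (map_different_le τ)) ?_
  rw [Ideal.radical_eq_sInf ((QFDual.different R τ).map (algebraMap R S))]
  refine le_sInf fun Q ⟨hle, hQ⟩ => hQ.radical_le_iff.2 fun s hs => ?_
  haveI := hQ
  let q : PrimeSpectrum R := ⟨Q.comap (algebraMap R S), inferInstance⟩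
  have hq : q ∈ Module.support R (M ⧸ (R ∙ τ)) := by
    rw [Module.support_eq_zeroLocus, PrimeSpectrum.mem_zeroLocus, SetLike.coe_subset_coe]
    intro r hr
    refine Ideal.map_le_iff_le_comap.1 hle ?_
    rw [QFDual.different, Submodule.mem_colon]
    intro x _
    rw [← Submodule.Quotient.mk_eq_zero, Submodule.Quotient.mk_smul]
    exact Module.mem_annihilator.1 hr _
  obtain ⟨f, hf⟩ := exists_linearMap_field_ne_zero q hq Q.ResidueField (by
    ext x
    rw [RingHom.mem_ker, IsScalarTower.algebraMap_apply R S Q.ResidueField,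
      Ideal.algebraMap_residueField_eq_zero]
    rfl)
  let g := (f.comp (Submodule.mkQ (R ∙ τ))).liftBaseChange S
  have hg : g ((1 : S) ⊗ₜ τ) = 0 := by
    rw [LinearMap.liftBaseChange_tmul, one_smul, LinearMap.comp_apply,
      show Submodule.mkQ (R ∙ τ) τ = 0 from
        (Submodule.Quotient.mk_eq_zero _).2 (Submodule.mem_span_singleton_self τ), map_zero]
  obtain ⟨x, hx⟩ : ∃ x, f x ≠ 0 := by
    by_contra h
    push Not at h
    exact hf (LinearMap.ext h)
  obtain ⟨m, rfl⟩ := Submodule.mkQ_surjective _ x
  rw [QFDual.mem_different_iff] at hs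
  obtain ⟨c, hc⟩ := hs ((1 : S) ⊗ₜ m)
  have h1 := congrArg g hc
  rw [map_smul, map_smul, hg, smul_zero, LinearMap.liftBaseChange_tmul, one_smul,
    LinearMap.comp_apply, Algebra.smul_def] at h1
  exact Ideal.algebraMap_residueField_eq_zero.1 ((mul_eq_zero.1 h1.symm).resolve_right hx)

end module

variable {A B' A₁ B'₁ : Type u} [CommRing A] [CommRing B'] [CommRing A₁] [CommRing B'₁]
  [Algebra A B'] [Algebra A A₁] [Algebra B' B'₁] [Algebra A₁ B'₁] [Algebra A B'₁]
  [IsScalarTower A A₁ B'₁] [IsScalarTower A B' B'₁]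

theorem trace_pushout (h : Algebra.IsPushout A A₁ B' B'₁) [Module.Free A B'] [Module.Finite A B']
    (b : B') : Algebra.trace A₁ B'₁ (algebraMap B' B'₁ b) = algebraMap A A₁ (Algebra.trace A B' b) := by
  haveI := h
  let e := Algebra.IsPushout.equiv A A₁ B' B'₁
  have he : e ((1 : A₁) ⊗ₜ b) = algebraMap B' B'₁ b := by simp [e, Algebra.IsPushout.equiv_tmul]
  rw [← he, Algebra.trace_eq_of_algEquiv, Algebra.trace_apply, Algebra.trace_apply,
    ← LinearMap.trace_baseChange]
  congr 1
  ext; simp

theorem bcFin_trace (h : Algebra.IsPushout A A₁ B' B'₁) [Module.Free A B'] [Module.Finite A B']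
    [Module.Free A₁ B'₁] [Module.Finite A₁ B'₁] :
    QFDual.bcFin h (Disc.Omega.trace A B') = Disc.Omega.trace A₁ B'₁ := by
  apply Disc.Omega.ext
  refine h.out.algHom_ext _ _ fun b => ?_
  exact (QFDual.bcFin_apply_algebraMap h _ b).trans (trace_pushout h b).symm

open scoped Groth.Agent.DiscNoether25 in
/-- The dualizing module of a finite free algebra is finite. -/
theorem finite_omega [Module.Free A B'] [Module.Finite A B'] :
    Module.Finite B' (Disc.Omega A B') := by
  haveI : Module.Finite A (Disc.Omega A B') :=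
    Module.Finite.equiv (DiscNoether25.omegaEquiv (A := A) (B := B')).symm
  exact Module.Finite.of_restrictScalars_finite A B' _

end Groth.Agent.QFBC1
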