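import Groth.Agent.Lib.QFBC1.Invertible
import Groth.Agent.Lib.DiscNoether25.Syntomic
import Mathlib.AlgebraicGeometry.Morphisms.QuasiFinite

/-!
Invertibility of the dualizing module of a flat quasi-finite map through its fibres.
-/

universe u

open TensorProduct
open scoped Groth.Agent.DiscNoether25

namespace Groth.Agent.QFBC1

section Base

variable {A B' B A₁ B'₁ B₁ : Type u} [CommRing A] [CommRing B'] [CommRing B] [CommRing A₁]
  [CommRing B'₁] [CommRing B₁] [IsNoetherianRing A] [IsNoetherianRing A₁] [Algebra A B'] [Algebra B' B]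
  [Algebra A B] [IsScalarTower A B' B] [Module.Flat A B] [Algebra A A₁] [Algebra B' B'₁]
  [Algebra A₁ B'₁] [Algebra A B'₁] [IsScalarTower A A₁ B'₁] [IsScalarTower A B' B'₁]
  [Algebra B B₁] [Algebra B'₁ B₁] [Algebra B' B₁] [IsScalarTower B' B'₁ B₁] [IsScalarTower B' B B₁]

theorem nonempty_omega_baseChange (hf : QFDual.IsQFFactor A B' B)
    (h : Algebra.IsPushout A A₁ B' B'₁) :
    Nonempty (B₁ ⊗[B] QFDual.omega A B' B ≃ₗ[B₁] QFDual.omega A₁ B'₁ B₁) := by
  haveI := hf.finite
  exact ⟨(AlgebraTensorModule.cancelBaseChange B' B B₁ B₁ (Disc.Omega A B')).trans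
    (LinearEquiv.ofBijective _ (omegaBC_bijective_of_flat (B := B) hf.isOpenImmersion h))⟩

end Base

/-- The criterion, in the form used by the statements. -/
theorem invertible_omega_iff {A B' B : Type u} [CommRing A] [CommRing B'] [CommRing B]
    [IsNoetherianRing A] [IsNoetherianRing B] [Algebra A B'] [Algebra B' B] [Algebra A B]
    [IsScalarTower A B' B] [Module.Flat A B] (hf : QFDual.IsQFFactor A B' B) :
    Module.Invertible B (QFDual.omega A B' B) ↔
      ∀ (p : Ideal A) [p.IsPrime] (B'₁ B₁ : Type u) [CommRing B'₁] [CommRing B₁] [Algebra B' B'₁]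
        [Algebra p.ResidueField B'₁] [Algebra A B'₁] [IsScalarTower A p.ResidueField B'₁]
        [IsScalarTower A B' B'₁] [Algebra B B₁] [Algebra p.ResidueField B₁] [Algebra A B₁]
        [IsScalarTower A p.ResidueField B₁] [IsScalarTower A B B₁] [Algebra B'₁ B₁] [Algebra B' B₁]
        [IsScalarTower B' B'₁ B₁] [IsScalarTower B' B B₁] [IsScalarTower p.ResidueField B'₁ B₁],
        Algebra.IsPushout A p.ResidueField B' B'₁ → Algebra.IsPushout A p.ResidueField B B₁ →
          Module.Invertible B₁ (QFDual.omega p.ResidueField B'₁ B₁) := by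
  constructor
  · intro hinv p _ B'₁ B₁ _ _ _ _ _ _ _ _ _ _ _ _ _ _ _ _ _ h _
    obtain ⟨e⟩ := nonempty_omega_baseChange (B := B) (B₁ := B₁) hf h
    exact Module.Invertible.congr e
  · intro hfib
    haveI := hf.finite
    haveI := finite_omega_of_noetherian A B'
    haveI : Module.Flat A (QFDual.omega A B' B) :=
      DiscNoether25.flat_omega_baseChange hf.isOpenImmersion
    refine invertible_of_fibres (A := A) fun p _ => ?_
    letI : Algebra B' (p.ResidueField ⊗[A] B') := Algebra.TensorProduct.rightAlgebra
    letI : Algebra B (p.ResidueField ⊗[A] B) := Algebra.TensorProduct.rightAlgebra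
    let g : p.ResidueField ⊗[A] B' →ₐ[A] p.ResidueField ⊗[A] B :=
      Algebra.TensorProduct.map (AlgHom.id A p.ResidueField) (IsScalarTower.toAlgHom A B' B)
    letI : Algebra (p.ResidueField ⊗[A] B') (p.ResidueField ⊗[A] B) := g.toRingHom.toAlgebra
    letI : Algebra B' (p.ResidueField ⊗[A] B) :=
      ((algebraMap B (p.ResidueField ⊗[A] B)).comp (algebraMap B' B)).toAlgebra
    haveI : IsScalarTower B' B (p.ResidueField ⊗[A] B) := IsScalarTower.of_algebraMap_eq' rfl
    haveI : IsScalarTower B' (p.ResidueField ⊗[A] B') (p.ResidueField ⊗[A] B) :=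
      IsScalarTower.of_algebraMap_eq fun b => by
        change (1 : p.ResidueField) ⊗ₜ[A] algebraMap B' B b = g (1 ⊗ₜ[A] b)
        rw [Algebra.TensorProduct.map_tmul]
        rfl
    haveI : IsScalarTower p.ResidueField (p.ResidueField ⊗[A] B') (p.ResidueField ⊗[A] B) :=
      IsScalarTower.of_algebraMap_eq fun r => by
        change r ⊗ₜ[A] (1 : B) = g (r ⊗ₜ[A] 1)
        rw [Algebra.TensorProduct.map_tmul, map_one]
        rfl
    have h : Algebra.IsPushout A p.ResidueField B' (p.ResidueField ⊗[A] B') := inferInstance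
    have hB : Algebra.IsPushout A p.ResidueField B (p.ResidueField ⊗[A] B) := inferInstance
    obtain ⟨e⟩ := nonempty_omega_baseChange (B := B) (B₁ := p.ResidueField ⊗[A] B) hf h
    haveI := hfib p (p.ResidueField ⊗[A] B') (p.ResidueField ⊗[A] B) h hB
    exact ⟨p.ResidueField ⊗[A] B, inferInstance, inferInstance, inferInstance, inferInstance,
      inferInstance, inferInstance, hB, Module.Invertible.congr e.symm⟩

/-- The dualizing module of a direct factor of a finite algebra is the dualizing module of the factor. -/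
theorem nonempty_omega_factor {k R T : Type u} [CommRing k] [CommRing R] [CommRing T] [Algebra k R]
    [Algebra k T] [Algebra R T] [IsScalarTower k R T] (hπ : Function.Surjective (algebraMap R T))
    [Module.Projective R T] : Nonempty (T ⊗[R] Disc.Omega k R ≃ₗ[T] Disc.Omega k T) := by
  obtain ⟨σ, hσ⟩ := Module.projective_lifting_property (Algebra.linearMap R T) LinearMap.id hπ
  have hσ' : ∀ t, algebraMap R T (σ t) = t := fun t => LinearMap.congr_fun hσ t
  have hπσ : ∀ r, σ (algebraMap R T r) = r * σ 1 := fun r => by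
    rw [← smul_eq_mul, ← map_smul, Algebra.smul_def, mul_one]
  letI : Module R (Disc.Omega k T) := Module.compHom _ (algebraMap R T)
  haveI : IsScalarTower R T (Disc.Omega k T) := IsScalarTower.of_algebraMap_smul fun _ _ => rfl
  let f : Disc.Omega k R →ₗ[R] Disc.Omega k T :=
    { toFun := fun φ => ⟨φ.toLinearMap.comp (σ.restrictScalars k)⟩
      map_add' := fun _ _ => rfl
      map_smul' := fun r φ => Disc.Omega.ext (LinearMap.ext fun t => by
        change φ.toLinearMap (r * σ t) = φ.toLinearMap (σ (algebraMap R T r * t))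
        rw [← Algebra.smul_def, map_smul, smul_eq_mul]) }
  let g : Disc.Omega k T → T ⊗[R] Disc.Omega k R := fun ψ =>
    1 ⊗ₜ[R] ⟨ψ.toLinearMap.comp (IsScalarTower.toAlgHom k R T).toLinearMap⟩
  refine ⟨LinearEquiv.ofBijective (f.liftBaseChange T) ⟨?_, fun ψ => ⟨g ψ, ?_⟩⟩⟩
  · refine Function.LeftInverse.injective (g := g) fun z => ?_
    induction z using TensorProduct.induction_on with
    | zero =>
      simp only [map_zero, g]
      exact tmul_zero _ 1
    | add x y hx hy =>
      conv_rhs => rw [← hx, ← hy]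
      simp only [map_add, g, ← TensorProduct.tmul_add]
      rfl
    | tmul t φ =>
      obtain ⟨r, rfl⟩ := hπ t
      rw [LinearMap.liftBaseChange_tmul]
      have h1 : (⟨((algebraMap R T r) • f φ).toLinearMap.comp
          (IsScalarTower.toAlgHom k R T).toLinearMap⟩ : Disc.Omega k R) = (r * σ 1) • φ := by
        refine Disc.Omega.ext (LinearMap.ext fun x => ?_)
        change φ.toLinearMap (σ (algebraMap R T r * algebraMap R T x)) = φ.toLinearMap (r * σ 1 * x)
        rw [← map_mul, hπσ, mul_right_comm]
      change (1 : T) ⊗ₜ[R] _ = _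
      rw [h1, ← TensorProduct.smul_tmul, Algebra.smul_def, map_mul, hσ', mul_one, mul_one]
  · rw [LinearMap.liftBaseChange_tmul, one_smul]
    refine Disc.Omega.ext (LinearMap.ext fun t => ?_)
    change ψ.toLinearMap (algebraMap R T (σ t)) = _
    rw [hσ']

open AlgebraicGeometry in
/-- An open immersion after finite is quasi-finite. -/
theorem quasiFinite_of_factor {A B' B : Type u} [CommRing A] [CommRing B'] [CommRing B]
    [Algebra A B'] [Algebra B' B] [Algebra A B] [IsScalarTower A B' B]
    (hf : QFDual.IsQFFactor A B' B) : Algebra.QuasiFinite A B := by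
  haveI := hf.finite
  haveI := hf.isOpenImmersion
  haveI : Algebra.QuasiFinite B' B := RingHom.quasiFinite_algebraMap.1
    ((HasRingHomProperty.Spec_iff (P := @LocallyQuasiFinite)).1
      (inferInstance : LocallyQuasiFinite (Spec.map (CommRingCat.ofHom (algebraMap B' B)))))
  exact Algebra.QuasiFinite.trans A B' B

/-- A quasi-finite syntomic algebra has an invertible dualizing module. -/
theorem invertible_omega_of_isSyntomic {A B' B : Type u} [CommRing A] [CommRing B'] [CommRing B]
    [IsNoetherianRing A] [Algebra A B'] [Algebra B' B] [Algebra A B] [IsScalarTower A B' B]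
    (hf : QFDual.IsQFFactor A B' B) (hs : Synt.IsSyntomic A B) :
    Module.Invertible B (QFDual.omega A B' B) := by
  haveI := hs.1
  haveI := hs.2.1
  haveI := hf.finite
  haveI : IsNoetherianRing B := Algebra.FiniteType.isNoetherianRing A B
  haveI := quasiFinite_of_factor hf
  haveI hflat : Module.Flat B' B :=
    RingHom.flat_algebraMap_iff.1 (DiscNoether25.flat_of_isOpenImmersion hf.isOpenImmersion)
  haveI hepi : Algebra.IsEpi B' B := DiscNoether25.epi_of_isOpenImmersion hf.isOpenImmersion
  refine (invertible_omega_iff hf).2 fun p _ B'₁ B₁ _ _ _ _ _ _ _ _ _ _ _ _ _ _ _ _ _ h hB => ?_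
  haveI := h
  haveI := hB
  haveI : Module.Finite p.ResidueField B'₁ :=
    Module.Finite.equiv (Algebra.IsPushout.equiv A p.ResidueField B' B'₁).toLinearEquiv
  haveI : Module.Finite p.ResidueField (p.Fiber B) := Algebra.QuasiFinite.finite_fiber p
  let E : p.Fiber B ≃ₐ[p.ResidueField] B₁ := Algebra.IsPushout.equiv A p.ResidueField B B₁
  haveI : Module.Finite p.ResidueField B₁ := Module.Finite.equiv E.toLinearEquiv
  haveI : Module.Finite B'₁ B₁ := Module.Finite.of_restrictScalars_finite p.ResidueField B'₁ B₁
  haveI hP : Algebra.IsPushout B' B B'₁ B₁ := by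
    haveI : Algebra.IsPushout A B' p.ResidueField B'₁ := h.symm
    haveI : IsScalarTower A B'₁ B₁ := IsScalarTower.of_algebraMap_eq fun a => by
      rw [IsScalarTower.algebraMap_apply A p.ResidueField B'₁,
        ← IsScalarTower.algebraMap_apply p.ResidueField B'₁ B₁, ← IsScalarTower.algebraMap_apply]
    exact (Algebra.IsPushout.comp_iff A B' p.ResidueField B'₁ (T := B) (T' := B₁)).1 hB.symm
  haveI : Module.Flat B'₁ B₁ := Module.Flat.isBaseChange B' B'₁ B B₁ hP.symm.out
  haveI : Algebra.IsEpi B'₁ B₁ := by
    rw [Algebra.isEpi_iff_forall_one_tmul_eq]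
    intro t
    induction t using hP.symm.out.inductionOn with
    | zero => simp
    | tmul b =>
      let μ : B ⊗[B'] B →ₐ[B'] B₁ ⊗[B'₁] B₁ := Algebra.TensorProduct.lift
        ((Algebra.TensorProduct.includeLeft (R := B'₁) (S := B'₁) (A := B₁) (B := B₁)).restrictScalars B'
          |>.comp (IsScalarTower.toAlgHom B' B B₁))
        (((Algebra.TensorProduct.includeRight (R := B'₁) (A := B₁) (B := B₁))).restrictScalars B'
          |>.comp (IsScalarTower.toAlgHom B' B B₁))
        fun _ _ => .all _ _
      have := congrArg μ ((Algebra.isEpi_iff_forall_one_tmul_eq B' B).1 hepi b)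
      simpa [μ] using this
    | smul r x hx => rw [TensorProduct.tmul_smul, hx, TensorProduct.smul_tmul']
    | add x y hx hy => rw [TensorProduct.tmul_add, hx, hy, TensorProduct.add_tmul]
  have hπ : Function.Surjective (algebraMap B'₁ B₁) :=
    Algebra.isEpi_iff_surjective_algebraMap_of_finite.1 inferInstance
  haveI : IsNoetherianRing B'₁ := IsNoetherianRing.of_finite p.ResidueField B'₁
  haveI : Module.FinitePresentation B'₁ B₁ := Module.finitePresentation_of_finite B'₁ B₁
  haveI : Module.Projective B'₁ B₁ := Module.Flat.projective_of_finitePresentation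
  obtain ⟨e₁⟩ := nonempty_omega_factor (k := p.ResidueField) hπ
  haveI := DiscNoether25.isGorensteinRing_of_isLCIOver (hs.2.2 ⟨p, inferInstance⟩)
  haveI : LocCoh.IsGorensteinRing B₁ := Goren15.isGorensteinRing_of_ringEquiv E.toRingEquiv
  obtain ⟨e₂⟩ := DiscNoether25.omega_equiv_of_gorenstein_field p.ResidueField B₁
  exact Module.Invertible.congr (e₁.trans e₂).symm

end Groth.Agent.QFBC1
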