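import Groth.Agent.Lib.QFBC1.Local

/-!
`Hom_A(B, A) ⊗ N → Hom_A(B, N)` is bijective locally at primes where the finite algebra `B` is flat.
-/

set_option backward.isDefEq.respectTransparency.types false

universe u

open TensorProduct
open scoped Groth.Agent.DiscNoether25

namespace Groth.Agent.QFBC1

open DiscNoether25

variable {A B N : Type u} [CommRing A] [CommRing B] [Algebra A B] [AddCommGroup N] [Module A N]

variable (B N) in
/-- The evaluation map `φ ⊗ n ↦ (b ↦ φ b • n)`. -/
noncomputable def ev : Disc.Omega A B ⊗[A] N →ₗ[A] (B →ₗ[A] N) :=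
  TensorProduct.lift (LinearMap.mk₂ A (fun φ n => φ.toLinearMap.smulRight n)
    (fun φ ψ n => LinearMap.ext fun b => add_smul _ _ _)
    (fun a φ n => LinearMap.ext fun b => by
      change (a • φ).toLinearMap b • n = a • φ.toLinearMap b • n
      rw [show (a • φ).toLinearMap = a • φ.toLinearMap from (omegaEquiv (A := A) (B := B)).map_smul a φ,
        LinearMap.smul_apply, smul_eq_mul, mul_smul])
    (fun φ n m => LinearMap.ext fun b => smul_add _ _ _)
    (fun a φ n => LinearMap.ext fun b => by
      simp [smul_comm a]))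

@[simp] theorem ev_tmul (φ : Disc.Omega A B) (n : N) (b : B) :
    ev B N (φ ⊗ₜ[A] n) b = φ.toLinearMap b • n := rfl

theorem ev_smul (s : B) (x : Disc.Omega A B ⊗[A] N) :
    ev B N (s • x) = ev B N x ∘ₗ LinearMap.mulLeft A s := by
  induction x using TensorProduct.induction_on with
  | zero => simp
  | add x y hx hy => rw [smul_add, map_add, hx, hy, map_add, LinearMap.add_comp]
  | tmul φ n => rfl

variable {A' : Type u} [CommRing A'] [Algebra A A']

/-- The pairing `(r ⊗ φ, s ⊗ n) ↦ r s ⊗ (φ ⊗ n)`. -/
noncomputable def jmap : A' ⊗[A] Disc.Omega A B →ₗ[A] A' ⊗[A] N →ₗ[A] A' ⊗[A] (Disc.Omega A B ⊗[A] N) :=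
  (TensorProduct.mk A _ _).compr₂
    ((TensorProduct.map (LinearMap.mul' A A') LinearMap.id).comp
      (TensorProduct.tensorTensorTensorComm A A' (Disc.Omega A B) A' N).toLinearMap)

theorem jmap_tmul (r s : A') (φ : Disc.Omega A B) (n : N) :
    jmap (r ⊗ₜ[A] φ) (s ⊗ₜ[A] n) = (r * s) ⊗ₜ[A] (φ ⊗ₜ[A] n) := rfl

theorem jmap_smul (c : A') (ψ : A' ⊗[A] Disc.Omega A B) (ν : A' ⊗[A] N) :
    jmap (c • ψ) ν = jmap ψ (c • ν) := by
  induction ψ using TensorProduct.induction_on with
  | zero => simp
  | add x y hx hy => simp only [smul_add, map_add, LinearMap.add_apply, hx, hy]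
  | tmul r φ =>
    induction ν using TensorProduct.induction_on with
    | zero => simp
    | add x y hx hy => simp only [smul_add, map_add, hx, hy]
    | tmul s n =>
      rw [TensorProduct.smul_tmul', TensorProduct.smul_tmul', jmap_tmul, jmap_tmul, smul_eq_mul,
        smul_eq_mul]
      congr 1
      ring

variable [Module.Flat A A'] [Module.FinitePresentation A B]

/-- `A' ⊗ Hom(B, N) ≅ Hom(A' ⊗ B, A' ⊗ N)`. -/
noncomputable def homEquiv :
    A' ⊗[A] (B →ₗ[A] N) ≃ₗ[A'] (A' ⊗[A] B →ₗ[A'] A' ⊗[A] N) :=
  (Module.FinitePresentation.isBaseChange_map A B N A').equiv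

theorem homEquiv_tmul (r : A') (g : B →ₗ[A] N) (z : A' ⊗[A] B) :
    homEquiv (r ⊗ₜ[A] g) z = r • g.baseChange A' z := by
  rw [homEquiv, IsBaseChange.equiv_tmul]
  rfl

/-- The dual of `A' ⊗ B`. -/
noncomputable def dualEquiv : A' ⊗[A] Disc.Omega A B ≃ₗ[A'] Module.Dual A' (A' ⊗[A] B) :=
  (isBaseChange_omegaBC (A := A) (B := B) (A' := A')).equiv

theorem dualEquiv_tmul (r t : A') (φ : Disc.Omega A B) (b : B) :
    dualEquiv (r ⊗ₜ[A] φ) (t ⊗ₜ[A] b) = r * (φ.toLinearMap b • t) := by
  rw [dualEquiv, IsBaseChange.equiv_tmul]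
  rfl

theorem homEquiv_jmap (ψ : A' ⊗[A] Disc.Omega A B) (ν : A' ⊗[A] N) (z : A' ⊗[A] B) :
    homEquiv ((ev (A := A) B N).lTensor A' (jmap ψ ν)) z = dualEquiv ψ z • ν := by
  induction ψ using TensorProduct.induction_on with
  | zero => simp
  | add x y hx hy => simp only [map_add, LinearMap.add_apply, hx, hy, add_smul]
  | tmul r φ =>
    induction ν using TensorProduct.induction_on with
    | zero => simp
    | add x y hx hy => simp only [map_add, LinearMap.add_apply, hx, hy, smul_add]
    | tmul s n =>
      induction z using TensorProduct.induction_on with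
      | zero => simp
      | add x y hx hy => simp only [map_add, hx, hy, add_smul]
      | tmul t b =>
        rw [jmap_tmul, LinearMap.lTensor_tmul, homEquiv_tmul, dualEquiv_tmul, LinearMap.baseChange_tmul,
          ev_tmul, TensorProduct.smul_tmul', TensorProduct.smul_tmul', TensorProduct.tmul_smul,
          TensorProduct.smul_tmul']
        congr 1
        simp only [smul_eq_mul, Algebra.smul_def]
        ring

theorem lTensor_toSpan_eq_sum {n : Type u} [Fintype n] (e : A' ⊗[A] B) (y : n → A' ⊗[A] B)
    (δ : n → Module.Dual A' (A' ⊗[A] B)) (h : ∀ z, e * z = ∑ i, δ i z • (e * y i))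
    (x : Disc.Omega A B ⊗[A] N) :
    ((LinearMap.toSpanSingleton B _ x).restrictScalars A).lTensor A' e =
      ∑ i, jmap (dualEquiv.symm (δ i)) ((ev B N x).baseChange A' (e * y i)) := by
  induction x using TensorProduct.induction_on with
  | zero => simp
  | add x x' hx hx' =>
    rw [show (LinearMap.toSpanSingleton B (Disc.Omega A B ⊗[A] N) (x + x')).restrictScalars A =
        (LinearMap.toSpanSingleton B _ x).restrictScalars A +
          (LinearMap.toSpanSingleton B _ x').restrictScalars A from LinearMap.ext fun b => smul_add b x x',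
      LinearMap.lTensor_add, LinearMap.add_apply, hx, hx', ← Finset.sum_add_distrib]
    simp only [map_add, LinearMap.baseChange_add, LinearMap.add_apply]
  | tmul φ m =>
    have h1 : ∀ w : A' ⊗[A] B,
        ((LinearMap.toSpanSingleton B _ (φ ⊗ₜ[A] m)).restrictScalars A).lTensor A' w =
          jmap (act w (1 ⊗ₜ[A] φ)) (1 ⊗ₜ[A] m) := fun w => by
      induction w using TensorProduct.induction_on with
      | zero => simp
      | add w w' hw hw' => simp only [map_add, LinearMap.add_apply, hw, hw']
      | tmul r b =>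
        rw [LinearMap.lTensor_tmul, act_tmul, jmap_tmul, mul_one, mul_one]
        rfl
    have h2 : act e (1 ⊗ₜ[A] φ) =
        ∑ i, dualEquiv (1 ⊗ₜ[A] φ) (e * y i) • dualEquiv.symm (δ i) := by
      refine dualEquiv.injective (LinearMap.ext fun z => ?_)
      rw [dualEquiv, omegaBC_act, h z, map_sum, map_sum, LinearMap.sum_apply]
      refine Finset.sum_congr rfl fun i _ => ?_
      rw [map_smul, map_smul, LinearEquiv.apply_symm_apply, LinearMap.smul_apply, smul_eq_mul,
        smul_eq_mul, mul_comm]
    have h3 : ∀ w : A' ⊗[A] B, dualEquiv (1 ⊗ₜ[A] φ) w • (1 : A') ⊗ₜ[A] m =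
        (ev B N (φ ⊗ₜ[A] m)).baseChange A' w := fun w => by
      induction w using TensorProduct.induction_on with
      | zero => simp
      | add w w' hw hw' => simp only [map_add, add_smul, hw, hw']
      | tmul t b =>
        rw [dualEquiv_tmul, LinearMap.baseChange_tmul, ev_tmul, one_mul, TensorProduct.smul_tmul',
          smul_eq_mul, mul_one, TensorProduct.smul_tmul]
    rw [h1, h2, map_sum, LinearMap.sum_apply]
    exact Finset.sum_congr rfl fun i _ => by rw [jmap_smul, h3]

omit [Module.Flat A A'] [Module.FinitePresentation A B] in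
/-- Injectivity of `ev` at `q`. -/
theorem exists_smul_eq_zero_of_ev [Module.Finite A B] [Module.FinitePresentation A B] (q : Ideal B)
    [q.IsPrime] [Module.Flat A (Localization.AtPrime q)] (x : Disc.Omega A B ⊗[A] N)
    (hx : ev B N x = 0) : ∃ s ∉ q, s • x = 0 := by
  obtain ⟨A', _, _, _, e, n, _, y, δ, hfac, hdesc⟩ := exists_local_factor (A := A) q
  refine hdesc _ x ?_
  rw [lTensor_toSpan_eq_sum e y δ hfac x, hx]
  simp

omit [Module.Flat A A'] [Module.FinitePresentation A B] in
/-- Surjectivity of `ev` at `q`. -/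
theorem exists_ev_eq_comp [Module.Finite A B] [Module.FinitePresentation A B] (q : Ideal B)
    [q.IsPrime] [Module.Flat A (Localization.AtPrime q)] (g : B →ₗ[A] N) :
    ∃ s ∉ q, ∃ x, ev B N x = g ∘ₗ LinearMap.mulLeft A s := by
  obtain ⟨A', _, _, _, e, n, _, y, δ, hfac, hdesc⟩ := exists_local_factor (A := A) q
  let L : B →ₗ[A] (B →ₗ[A] N) :=
    { toFun := fun b => g ∘ₗ LinearMap.mulLeft A b
      map_add' := fun b c => LinearMap.ext fun z => by simp [add_mul]
      map_smul' := fun a b => LinearMap.ext fun z => by simp }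
  let I : Ideal B :=
    { carrier := {s | L s ∈ LinearMap.range (ev (A := A) B N)}
      add_mem' := fun {s t} hs ht => by
        change L (s + t) ∈ LinearMap.range (ev (A := A) B N)
        rw [map_add]
        exact add_mem hs ht
      zero_mem' := by
        change L 0 ∈ LinearMap.range (ev (A := A) B N)
        rw [map_zero]
        exact zero_mem _
      smul_mem' := fun c s ⟨x, hx⟩ => ⟨c • x, by
        rw [ev_smul, hx]
        exact LinearMap.ext fun z => congrArg g (show s * (c * z) = c • s * z by
          rw [smul_eq_mul]; ring)⟩ }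
  obtain ⟨s, hs, hsx⟩ := hdesc (B ⧸ I) 1 (by
    let C := (B →ₗ[A] N) ⧸ LinearMap.range (ev (A := A) B N)
    let μ : (B ⧸ I) →ₗ[A] C :=
      (Submodule.liftQ (I.restrictScalars A) ((Submodule.mkQ _).comp L) fun b hb => by
        rw [LinearMap.mem_ker, LinearMap.comp_apply, Submodule.mkQ_apply, Submodule.Quotient.mk_eq_zero]
        exact hb).comp (Submodule.Quotient.restrictScalarsEquiv A I).symm.toLinearMap
    have hμ : ∀ b : B, μ (Ideal.Quotient.mk I b) = Submodule.Quotient.mk (L b) := fun b => rfl
    have hμinj : Function.Injective μ := by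
      rw [injective_iff_map_eq_zero]
      intro c hc
      obtain ⟨b, rfl⟩ := Ideal.Quotient.mk_surjective c
      rw [hμ, Submodule.Quotient.mk_eq_zero] at hc
      exact Ideal.Quotient.eq_zero_iff_mem.2 hc
    apply Module.Flat.lTensor_preserves_injective_linearMap (M := A') μ hμinj
    rw [map_zero, ← LinearMap.comp_apply, ← LinearMap.lTensor_comp,
      show μ ∘ₗ (LinearMap.toSpanSingleton B (B ⧸ I) 1).restrictScalars A =
        (Submodule.mkQ _).comp L from LinearMap.ext fun b => by
          rw [LinearMap.comp_apply, LinearMap.coe_restrictScalars, LinearMap.toSpanSingleton_apply,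
            Algebra.smul_def, mul_one, Ideal.Quotient.algebraMap_eq, hμ]
          rfl,
      LinearMap.lTensor_comp, LinearMap.comp_apply]
    have hg : L.lTensor A' e =
        (ev (A := A) B N).lTensor A' (∑ i, jmap (dualEquiv.symm (δ i)) (g.baseChange A' (e * y i))) := by
      refine homEquiv.injective (LinearMap.ext fun z => ?_)
      have h0 : homEquiv (L.lTensor A' e) z = g.baseChange A' (e * z) := by
        clear hdesc hfac
        induction e using TensorProduct.induction_on with
        | zero => simp
        | add e e' he he' => simp only [map_add, LinearMap.add_apply, add_mul, he, he']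
        | tmul r b =>
          induction z using TensorProduct.induction_on with
          | zero => simp
          | add z z' hz hz' => simp only [map_add, mul_add, hz, hz']
          | tmul t c =>
            rw [LinearMap.lTensor_tmul, homEquiv_tmul, Algebra.TensorProduct.tmul_mul_tmul,
              LinearMap.baseChange_tmul, LinearMap.baseChange_tmul, TensorProduct.smul_tmul']
            rfl
      rw [h0, hfac z, map_sum, map_sum, map_sum, LinearMap.sum_apply]
      refine Finset.sum_congr rfl fun i _ => ?_
      rw [homEquiv_jmap, LinearEquiv.apply_symm_apply, map_smul]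
    rw [hg, ← LinearMap.comp_apply, ← LinearMap.lTensor_comp,
      show (Submodule.mkQ (LinearMap.range (ev (A := A) B N))).comp (ev (A := A) B N) = 0 from LinearMap.ext fun x => by
        simp [Submodule.Quotient.mk_eq_zero]]
    simp)
  have hsI : s ∈ I := by
    rw [← Ideal.Quotient.eq_zero_iff_mem, ← Ideal.Quotient.algebraMap_eq, ← mul_one (algebraMap B (B ⧸ I) s),
      ← Algebra.smul_def]
    exact hsx
  obtain ⟨x, hx⟩ := hsI
  exact ⟨s, hs, x, hx⟩

end Groth.Agent.QFBC1
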