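import Groth.Agent.Lib.QFBC1.Basic
import Groth.Agent.Lib.QFBC1.HomBC

/-!
Arbitrary base change of the dualizing module of a flat quasi-finite map.
-/

set_option backward.isDefEq.respectTransparency.types false

universe u

open TensorProduct
open scoped Groth.Agent.DiscNoether25

namespace Groth.Agent.QFBC1

open DiscNoether25

/-- The dual of a finite module over a Noetherian ring is finite. -/
theorem finite_dual (R M : Type u) [CommRing R] [IsNoetherianRing R] [AddCommGroup M] [Module R M]
    [Module.Finite R M] : Module.Finite R (M →ₗ[R] R) := by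
  obtain ⟨n, π, hπ⟩ := Module.Finite.exists_fin' R M
  exact Module.Finite.of_injective (LinearMap.lcomp R R π) (LinearMap.lcomp_injective_of_surjective _ hπ)

/-- The dualizing module of a finite algebra over a Noetherian ring is finite. -/
theorem finite_omega_of_noetherian (A B' : Type u) [CommRing A] [CommRing B'] [Algebra A B']
    [IsNoetherianRing A] [Module.Finite A B'] : Module.Finite B' (Disc.Omega A B') := by
  haveI := finite_dual A B'
  haveI : Module.Finite A (Disc.Omega A B') :=
    Module.Finite.equiv (omegaEquiv (A := A) (B := B')).symm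
  exact Module.Finite.of_restrictScalars_finite A B' _

/-- A finitely generated module locally killed outside `q` is killed by one element. -/
theorem exists_forall_smul_eq_zero {R S X : Type u} [CommRing R] [CommRing S] [Algebra R S]
    [AddCommGroup X] [Module S X] (q : Ideal R) [q.IsPrime] (W : Submodule S X) (hW : W.FG)
    (h : ∀ x ∈ W, ∃ s ∉ q, algebraMap R S s • x = 0) :
    ∃ s ∉ q, ∀ x ∈ W, algebraMap R S s • x = 0 := by
  classical
  obtain ⟨G, rfl⟩ := hW
  choose t ht ht' using fun x : {x // x ∈ G} => h x.1 (Submodule.subset_span x.2)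
  refine ⟨∏ x, t x, fun hp => ?_, fun x hx => ?_⟩
  · obtain ⟨i, -, hi⟩ := Ideal.IsPrime.prod_mem_iff.1 hp
    exact ht i hi
  · refine Submodule.span_induction (p := fun x _ => algebraMap R S (∏ x, t x) • x = 0) ?_
      (smul_zero _) (fun x y _ _ hx hy => by rw [smul_add, hx, hy, add_zero])
      (fun c x _ hx => by rw [smul_comm, hx, smul_zero]) hx
    intro y hy
    obtain ⟨c, hc⟩ := Finset.dvd_prod_of_mem t (Finset.mem_univ (⟨y, hy⟩ : {x // x ∈ G}))
    rw [hc, map_mul, mul_comm, mul_smul, ht', smul_zero]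

variable {A B' A₁ B'₁ : Type u} [CommRing A] [CommRing B'] [CommRing A₁] [CommRing B'₁]
  [Algebra A B'] [Algebra A A₁] [Algebra B' B'₁] [Algebra A₁ B'₁] [Algebra A B'₁]
  [IsScalarTower A A₁ B'₁] [IsScalarTower A B' B'₁]

/-- `bcFin` linearised over `B'₁`. -/
noncomputable def bcLift (h : Algebra.IsPushout A A₁ B' B'₁) :
    B'₁ ⊗[B'] Disc.Omega A B' →ₗ[B'₁] Disc.Omega A₁ B'₁ :=
  letI : Module B' (Disc.Omega A₁ B'₁) := Module.compHom _ (algebraMap B' B'₁)
  haveI : IsScalarTower B' B'₁ (Disc.Omega A₁ B'₁) :=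
    IsScalarTower.of_algebraMap_smul fun _ _ => rfl
  LinearMap.liftBaseChange B'₁
    ({ toFun := QFDual.bcFin h
       map_add' := map_add _
       map_smul' := fun b φ => LinearMap.map_smulₛₗ (QFDual.bcFin h) b φ } :
      Disc.Omega A B' →ₗ[B'] Disc.Omega A₁ B'₁)

@[simp] theorem bcLift_tmul (h : Algebra.IsPushout A A₁ B' B'₁) (r : B'₁) (φ : Disc.Omega A B') :
    bcLift h (r ⊗ₜ[B'] φ) = r • QFDual.bcFin h φ := rfl

/-- At a prime where `B'` is flat, `bcLift` is invertible up to an element outside the prime. -/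
theorem exists_quasi_inverse (h : Algebra.IsPushout A A₁ B' B'₁) [IsNoetherianRing A]
    [IsNoetherianRing A₁] [Module.Finite A B'] (q : Ideal B') [q.IsPrime]
    [Module.Flat A (Localization.AtPrime q)] :
    ∃ s ∉ q, (∀ z, bcLift h z = 0 → algebraMap B' B'₁ s • z = 0) ∧
      ∀ y, ∃ z, bcLift h z = algebraMap B' B'₁ s • y := by
  classical
  haveI := h
  haveI : Module.FinitePresentation A B' := Module.finitePresentation_of_finite A B'
  let c := Algebra.IsPushout.cancelBaseChange A A₁ B' B'₁ (Disc.Omega A B')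
  let D : Disc.Omega A B' ⊗[A] A₁ → B'₁ ⊗[B'] Disc.Omega A B' := fun x =>
    c.symm (TensorProduct.comm A _ _ x)
  have hDsurj : Function.Surjective D := fun z =>
    ⟨(TensorProduct.comm A _ _).symm (c z), by simp [D]⟩
  have hD : ∀ φ r, D (φ ⊗ₜ[A] r) = algebraMap A₁ B'₁ r ⊗ₜ[B'] φ := fun φ r => by
    simp [D, c, Algebra.IsPushout.cancelBaseChange_symm_tmul]
  have hDadd : ∀ x y, D (x + y) = D x + D y := fun x y => by simp [D]
  have hD0 : D 0 = 0 := by simp [D]
  have hDs : ∀ (s : B') x, D (s • x) = algebraMap B' B'₁ s • D x := fun s x => by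
    induction x using TensorProduct.induction_on with
    | zero => simp [hD0]
    | add x y hx hy => rw [smul_add, hDadd, hx, hy, hDadd, smul_add]
    | tmul φ r =>
      rw [TensorProduct.smul_tmul', hD, hD, algebraMap_smul, TensorProduct.smul_tmul',
        TensorProduct.smul_tmul]
  have hev : ∀ x b, (bcLift h (D x)).toLinearMap (algebraMap B' B'₁ b) = ev B' A₁ x b := fun x b => by
    induction x using TensorProduct.induction_on with
    | zero => simp [hD0]
    | add x y hx hy => rw [hDadd, map_add, map_add, Disc.Omega.add_toLinearMap, LinearMap.add_apply,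
        LinearMap.add_apply, hx, hy]
    | tmul φ r =>
      rw [hD, bcLift_tmul, Disc.Omega.smul_toLinearMap_apply, ← Algebra.smul_def, map_smul,
        QFDual.bcFin_apply_algebraMap, ev_tmul, Algebra.smul_def (φ.toLinearMap b), smul_eq_mul,
        mul_comm]
  haveI : Module.Finite A₁ B'₁ := Module.Finite.equiv (Algebra.IsPushout.equiv A A₁ B' B'₁).toLinearEquiv
  haveI : IsNoetherianRing B'₁ := IsNoetherianRing.of_finite A₁ B'₁
  haveI := finite_omega_of_noetherian A B'
  haveI := finite_omega_of_noetherian A₁ B'₁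
  obtain ⟨s₁, hs₁, hker⟩ := exists_forall_smul_eq_zero (R := B') q (LinearMap.ker (bcLift h))
    (IsNoetherian.noetherian _) fun z hz => by
      obtain ⟨x, rfl⟩ := hDsurj z
      obtain ⟨s, hs, hsx⟩ := exists_smul_eq_zero_of_ev q x (LinearMap.ext fun b => by
        rw [← hev, LinearMap.mem_ker.1 hz]
        rfl)
      exact ⟨s, hs, by rw [← hDs, hsx, hD0]⟩
  have hcok : ∀ y, ∃ s ∉ q, algebraMap B' B'₁ s • y ∈ LinearMap.range (bcLift h) := fun y => by
    obtain ⟨s, hs, x, hx⟩ := exists_ev_eq_comp q
      ((y.toLinearMap.restrictScalars A).comp (IsScalarTower.toAlgHom A B' B'₁).toLinearMap)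
    refine ⟨s, hs, D x, Disc.Omega.ext (h.out.algHom_ext _ _ fun b => ?_)⟩
    change (bcLift h (D x)).toLinearMap (algebraMap B' B'₁ b) = _
    rw [hev, hx]
    change y.toLinearMap (algebraMap B' B'₁ (s * b)) = _
    rw [map_mul]
    rfl
  obtain ⟨G, hG⟩ := (Module.Finite.fg_top : (⊤ : Submodule B'₁ (Disc.Omega A₁ B'₁)).FG)
  choose t ht ht' using fun x : {x // x ∈ G} => hcok x.1
  have hs₂ : (∏ x, t x) ∉ q := fun hp => by
    obtain ⟨i, -, hi⟩ := Ideal.IsPrime.prod_mem_iff.1 hp
    exact ht i hi
  have hsurj : ∀ y, algebraMap B' B'₁ (∏ x, t x) • y ∈ LinearMap.range (bcLift h) := fun y => by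
    have hy : y ∈ Submodule.span B'₁ (G : Set (Disc.Omega A₁ B'₁)) := hG ▸ Submodule.mem_top
    refine Submodule.span_induction (p := fun y _ => algebraMap B' B'₁ (∏ x, t x) • y ∈
      LinearMap.range (bcLift h)) ?_ (by simp)
      (fun x y _ _ hx hy => by rw [smul_add]; exact add_mem hx hy)
      (fun c x _ hx => by rw [smul_comm]; exact Submodule.smul_mem _ c hx) hy
    intro g hg
    obtain ⟨d, hd⟩ := Finset.dvd_prod_of_mem t (Finset.mem_univ (⟨g, hg⟩ : {x // x ∈ G}))
    rw [hd, map_mul, mul_comm, mul_smul]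
    exact Submodule.smul_mem _ _ (ht' ⟨g, hg⟩)
  refine ⟨s₁ * ∏ x, t x, fun hp => ((Ideal.IsPrime.mem_or_mem inferInstance hp).elim hs₁ hs₂),
    fun z hz => by rw [map_mul, mul_comm, mul_smul, hker z hz, smul_zero], fun y => ?_⟩
  obtain ⟨z, hz⟩ := hsurj y
  exact ⟨algebraMap B' B'₁ s₁ • z, by rw [map_smul, hz, map_mul, mul_smul]⟩

/-- A map invertible up to a scalar stays so after tensoring. -/
theorem exists_tensor_quasi_inverse {R T X Y : Type u} [CommRing R] [CommRing T] [Algebra R T]
    [AddCommGroup X] [Module R X] [AddCommGroup Y] [Module R Y] (f : X →ₗ[R] Y) (s : R)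
    (hker : ∀ z, f z = 0 → s • z = 0) (hsurj : ∀ y, ∃ z, f z = s • y) :
    (∀ z, f.lTensor T z = 0 → (algebraMap R T s * algebraMap R T s) • z = 0) ∧
      ∀ y, (algebraMap R T s * algebraMap R T s) • y ∈ Set.range (f.lTensor T) := by
  choose p hp using hsurj
  have hinj : ∀ z z', f z = f z' → s • z = s • z' := fun z z' he =>
    sub_eq_zero.1 (by rw [← smul_sub]; exact hker _ (by rw [map_sub, he, sub_self]))
  let g : Y →ₗ[R] X :=
    { toFun := fun y => s • p y
      map_add' := fun y y' => by
        rw [← smul_add]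
        exact hinj _ _ (by rw [map_add, hp, hp, hp, smul_add])
      map_smul' := fun c y => by
        rw [RingHom.id_apply, smul_comm c]
        exact hinj _ _ (by rw [map_smul, hp, hp, smul_comm]) }
  have hgf : g ∘ₗ f = (s * s) • LinearMap.id := LinearMap.ext fun z => by
    change s • p (f z) = (s * s) • z
    rw [mul_smul]
    exact hinj _ _ (by rw [hp, map_smul])
  have hfg : f ∘ₗ g = (s * s) • LinearMap.id := LinearMap.ext fun y => by
    change f (s • p y) = (s * s) • y
    rw [map_smul, hp, mul_smul]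
  refine ⟨fun z hz => ?_, fun y => ⟨g.lTensor T y, ?_⟩⟩
  · have := LinearMap.congr_fun (congrArg (LinearMap.lTensor T) hgf) z
    rw [LinearMap.lTensor_comp, LinearMap.comp_apply, hz, map_zero, LinearMap.lTensor_smul,
      LinearMap.lTensor_id, LinearMap.smul_apply, LinearMap.id_apply, ← algebraMap_smul T (s * s),
      map_mul] at this
    exact this.symm
  · have := LinearMap.congr_fun (congrArg (LinearMap.lTensor T) hfg) y
    rw [LinearMap.lTensor_comp, LinearMap.comp_apply, LinearMap.lTensor_smul, LinearMap.lTensor_id,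
      LinearMap.smul_apply, LinearMap.id_apply, ← algebraMap_smul T (s * s), map_mul] at this
    exact this

open AlgebraicGeometry in
/-- The dualizing module of a flat quasi-finite map commutes with any base change. -/
theorem omegaBC_bijective_of_flat {B B₁ : Type u} [CommRing B] [CommRing B₁] [IsNoetherianRing A]
    [IsNoetherianRing A₁] [Algebra A B] [Algebra B' B] [IsScalarTower A B' B] [Module.Flat A B]
    [Module.Finite A B']
    (hopen : IsOpenImmersion (Spec.map (CommRingCat.ofHom (algebraMap B' B))))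
    (h : Algebra.IsPushout A A₁ B' B'₁) [Algebra B B₁] [Algebra B'₁ B₁] [Algebra B' B₁]
    [IsScalarTower B' B'₁ B₁] [IsScalarTower B' B B₁] :
    Function.Bijective (QFDual.omegaBC (B₁ := B₁) h) := by
  let e := (AlgebraTensorModule.cancelBaseChange B' B'₁ B₁ B₁ (Disc.Omega A B')).symm
  let F : B₁ ⊗[B'₁] (B'₁ ⊗[B'] Disc.Omega A B') →ₗ[B₁] B₁ ⊗[B'₁] Disc.Omega A₁ B'₁ :=
    AlgebraTensorModule.lTensor B₁ B₁ (bcLift h)
  have hE : ∀ z, QFDual.omegaBC (B₁ := B₁) h z = F (e z) := fun z => by
    induction z using TensorProduct.induction_on with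
    | zero => simp
    | add z z' hz hz' => simp only [map_add, hz, hz']
    | tmul b φ => simp [F, e]
  rw [show (QFDual.omegaBC (B₁ := B₁) h : _ → _) = F ∘ e from funext hE]
  refine Function.Bijective.comp ?_ e.bijective
  have key : ∀ Q : Ideal B₁, Q.IsPrime → ∃ s : B₁, s ∉ Q ∧
      (∀ z, F z = 0 → s • z = 0) ∧ ∀ y, s • y ∈ LinearMap.range F := fun Q _ => by
    haveI := flat_localization_comap (A := A) hopen (Q.comap (algebraMap B B₁))
    obtain ⟨s, hs, hker, hsurj⟩ :=
      exists_quasi_inverse h ((Q.comap (algebraMap B B₁)).comap (algebraMap B' B))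
    obtain ⟨h1, h2⟩ := exists_tensor_quasi_inverse (T := B₁) (bcLift h) (algebraMap B' B'₁ s) hker hsurj
    refine ⟨algebraMap B'₁ B₁ (algebraMap B' B'₁ s) * algebraMap B'₁ B₁ (algebraMap B' B'₁ s), ?_,
      fun z hz => h1 z hz, fun y => h2 y⟩
    rw [← IsScalarTower.algebraMap_apply, IsScalarTower.algebraMap_apply B' B B₁]
    exact fun hp => (Ideal.IsPrime.mem_or_mem inferInstance hp).elim hs hs
  constructor
  · rw [injective_iff_map_eq_zero]
    intro z hz
    by_contra hne
    have htop : (⊥ : Submodule B₁ _).colon {z} ≠ ⊤ := fun htop => hne (by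
      have h1 : (1 : B₁) ∈ (⊥ : Submodule B₁ _).colon {z} := by rw [htop]; trivial
      simpa [Submodule.mem_colon_singleton] using h1)
    obtain ⟨Q, hQ, hle⟩ := Ideal.exists_le_maximal _ htop
    obtain ⟨s, hs, hk, -⟩ := key Q hQ.isPrime
    exact hs (hle (Submodule.mem_colon_singleton.2 (by rw [Submodule.mem_bot]; exact hk z hz)))
  · intro y
    by_contra hne
    have htop : (LinearMap.range F).colon {y} ≠ ⊤ := fun htop => hne (by
      have h1 : (1 : B₁) ∈ (LinearMap.range F).colon {y} := by rw [htop]; trivial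
      simpa [Submodule.mem_colon_singleton] using h1)
    obtain ⟨Q, hQ, hle⟩ := Ideal.exists_le_maximal _ htop
    obtain ⟨s, hs, -, hsu⟩ := key Q hQ.isPrime
    exact hs (hle (Submodule.mem_colon_singleton.2 (hsu y)))

end Groth.Agent.QFBC1
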