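import Groth.Agent.Lib.QFBC1.Flat
import Groth.Agent.S0394
import Mathlib.RingTheory.PicardGroup
import Mathlib.RingTheory.LocalRing.ResidueField.Ideal

/-!
A fibrewise criterion for invertibility.
-/

universe u

open TensorProduct

namespace Groth.Agent.QFBC1

/-- A module with, at each maximal ideal, a local generator detected by a functional, is invertible. -/
theorem invertible_of_local {R M : Type u} [CommRing R] [AddCommGroup M] [Module R M]
    (h : ∀ Q : Ideal R, Q.IsMaximal → ∃ (m₀ : M) (g : M →ₗ[R] R), g m₀ ∉ Q ∧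
      ∀ x, ∃ s ∉ Q, ∃ a : R, s • x = a • m₀) :
    Module.Invertible R M := by
  have hcomm : ∀ (ψ : M →ₗ[R] R) (x y : M), ψ x • y = ψ y • x := fun ψ x y => by
    rw [← sub_eq_zero]
    by_contra hne
    have htop : (⊥ : Submodule R M).colon {ψ x • y - ψ y • x} ≠ ⊤ := fun htop => hne (by
      have h1 : (1 : R) ∈ (⊥ : Submodule R M).colon {ψ x • y - ψ y • x} := by rw [htop]; trivial
      simpa [Submodule.mem_colon_singleton] using h1)
    obtain ⟨Q, hQ, hle⟩ := Ideal.exists_le_maximal _ htop
    obtain ⟨m₀, g, -, hcyc⟩ := h Q hQ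
    obtain ⟨s, hs, a, ha⟩ := hcyc x
    obtain ⟨t, ht, b, hb⟩ := hcyc y
    refine (fun hp => (hQ.isPrime.mem_or_mem hp).elim hs ht) (hle (Submodule.mem_colon_singleton.2
      (?_ : (s * t) • (ψ x • y - ψ y • x) ∈ _)))
    have e1 : (s * t) • (ψ x • y) = ψ (s • x) • (t • y) := by
      rw [map_smul, smul_eq_mul, smul_smul, smul_smul]; ring_nf
    have e2 : (s * t) • (ψ y • x) = ψ (t • y) • (s • x) := by
      rw [map_smul, smul_eq_mul, smul_smul, smul_smul]; ring_nf
    rw [Submodule.mem_bot, smul_sub, e1, e2, ha, hb, map_smul, map_smul, sub_eq_zero, smul_smul,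
      smul_smul, smul_eq_mul, smul_eq_mul]
    ring_nf
  have hsurj : ∃ z : Module.Dual R M ⊗[R] M, contractLeft R M z = 1 := by
    have htop : LinearMap.range (contractLeft R M) = ⊤ := by
      by_contra hne
      obtain ⟨Q, hQ, hle⟩ := Ideal.exists_le_maximal _ hne
      obtain ⟨m₀, g, hg, -⟩ := h Q hQ
      exact hg (hle ⟨g ⊗ₜ m₀, contractLeft_apply g m₀⟩)
    exact LinearMap.range_eq_top.1 htop 1
  obtain ⟨z₀, hz₀⟩ := hsurj
  have key : ∀ w z : Module.Dual R M ⊗[R] M,
      contractLeft R M w • z = contractLeft R M z • w := fun w z => by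
    induction w using TensorProduct.induction_on with
    | zero => simp
    | add w w' hw hw' => rw [map_add, add_smul, hw, hw', smul_add]
    | tmul ψ m =>
      induction z using TensorProduct.induction_on with
      | zero => simp
      | add z z' hz hz' => rw [map_add, add_smul, smul_add, hz, hz']
      | tmul φ x =>
        rw [contractLeft_apply, contractLeft_apply, ← TensorProduct.tmul_smul, hcomm ψ m x,
          TensorProduct.tmul_smul, TensorProduct.smul_tmul', TensorProduct.smul_tmul',
          show ψ x • φ = φ x • ψ from LinearMap.ext fun y => by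
            rw [LinearMap.smul_apply, LinearMap.smul_apply, ← map_smul φ, hcomm ψ x y, map_smul,
              smul_eq_mul, smul_eq_mul, mul_comm]]
  refine ⟨?_, fun r => ⟨r • z₀, by rw [map_smul, hz₀, smul_eq_mul, mul_one]⟩⟩
  rw [injective_iff_map_eq_zero]
  intro z hz
  have := key z₀ z
  rwa [hz₀, hz, one_smul, zero_smul] at this

/-- Flatness over the base survives a flat tensor. -/
theorem flat_tensor {A B T M : Type u} [CommRing A] [CommRing B] [CommRing T] [Algebra A B]
    [Algebra B T] [Algebra A T] [IsScalarTower A B T] [AddCommGroup M] [Module B M] [Module A M]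
    [IsScalarTower A B M] [Module.Flat B T] [Module.Flat A M] : Module.Flat A (T ⊗[B] M) := by
  refine Module.Flat.iff_lTensor_injective'.2 fun J => ?_
  let μ : M ⊗[A] J →ₗ[B] M ⊗[A] A := AlgebraTensorModule.lTensor B M J.subtype
  let a₁ := AlgebraTensorModule.assoc A B B T M J
  let a₂ := AlgebraTensorModule.assoc A B B T M A
  have hnat : ∀ z, μ.lTensor T (a₁ z) = a₂ (J.subtype.lTensor (T ⊗[B] M) z) := fun z => by
    induction z using TensorProduct.induction_on with
    | zero => simp
    | add z z' h h' => simp only [map_add, h, h']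
    | tmul w j =>
      induction w using TensorProduct.induction_on with
      | zero => simp
      | add w w' h h' => simp only [TensorProduct.add_tmul, map_add, h, h']
      | tmul b φ => rfl
  have hμ : Function.Injective μ := Module.Flat.iff_lTensor_injective'.1 inferInstance J
  intro x y hxy
  apply a₁.injective
  apply Module.Flat.lTensor_preserves_injective_linearMap (M := T) μ hμ
  rw [hnat, hnat, hxy]

open IsLocalRing in
/-- A finite module, flat over the base, with invertible fibres is invertible. -/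
theorem invertible_of_fibres {A B M : Type u} [CommRing A] [CommRing B] [IsNoetherianRing A]
    [IsNoetherianRing B] [Algebra A B] [AddCommGroup M] [Module B M] [Module A M]
    [IsScalarTower A B M] [Module.Finite B M] [Module.Flat A M]
    (h : ∀ (p : Ideal A) [p.IsPrime], ∃ (B₁ : Type u) (_ : CommRing B₁) (_ : Algebra B B₁)
      (_ : Algebra p.ResidueField B₁) (_ : Algebra A B₁) (_ : IsScalarTower A p.ResidueField B₁)
      (_ : IsScalarTower A B B₁),
      Algebra.IsPushout A p.ResidueField B B₁ ∧ Module.Invertible B₁ (B₁ ⊗[B] M)) :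
    Module.Invertible B M := by
  refine invertible_of_local fun Q hQ => ?_
  haveI := hQ
  let p := Q.comap (algebraMap A B)
  obtain ⟨B₁, _, _, _, _, _, _, hpush, hinv⟩ := h p
  let R := Localization.AtPrime p
  let S := Localization.AtPrime Q
  let l := Localization.localRingHom p Q (algebraMap A B) rfl
  letI : Algebra R S := l.toAlgebra
  haveI : IsScalarTower A R S := IsScalarTower.of_algebraMap_eq fun a => by
    rw [RingHom.algebraMap_toAlgebra, Localization.localRingHom_to_map,
      ← IsScalarTower.algebraMap_apply]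
  haveI : IsLocalHom (algebraMap R S) :=
    Localization.isLocalHom_localRingHom p Q (algebraMap A B) rfl
  haveI : SMulCommClass R B S := ⟨fun r b s => by
    simp only [Algebra.smul_def]; ring⟩
  haveI : SMulCommClass B R S := SMulCommClass.symm _ _ _
  let N := S ⊗[B] M
  haveI : Module.Flat A N := flat_tensor (A := A) (B := B) (T := S) (M := M)
  haveI : Module.Flat R N := (Module.flat_iff_of_isLocalization R p.primeCompl N).2 inferInstance
  let J := (maximalIdeal R).map (algebraMap R S)
  have hJ : J ≠ ⊤ := fun htop => (maximalIdeal.isMaximal S).ne_top (top_le_iff.1 (htop ▸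
    Ideal.map_le_iff_le_comap.2 (le_of_eq ((IsLocalRing.maximalIdeal_comap (algebraMap R S)).symm))))
  haveI : Nontrivial (S ⧸ J) := Ideal.Quotient.nontrivial_iff.2 hJ
  haveI : IsLocalRing (S ⧸ J) :=
    IsLocalRing.of_surjective' (Ideal.Quotient.mk J) Ideal.Quotient.mk_surjective
  let κf : p.ResidueField →ₐ[A] S ⧸ J := Ideal.ResidueField.liftₐ p (Algebra.ofId A (S ⧸ J))
    (fun a ha => by
      rw [RingHom.mem_ker]
      change algebraMap A (S ⧸ J) a = 0
      rw [IsScalarTower.algebraMap_apply A S (S ⧸ J), Ideal.Quotient.algebraMap_eq,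
        Ideal.Quotient.eq_zero_iff_mem, IsScalarTower.algebraMap_apply A R S]
      exact Ideal.mem_map_of_mem _ ((IsLocalization.AtPrime.to_map_mem_maximal_iff R p a).2 ha))
    (fun a ha => by
      change IsUnit (algebraMap A (S ⧸ J) a)
      rw [IsScalarTower.algebraMap_apply A R (S ⧸ J)]
      exact (IsLocalization.map_units R (⟨a, ha⟩ : p.primeCompl)).map _)
  let ρ : B₁ →+* S ⧸ J := ((Algebra.TensorProduct.lift κf (IsScalarTower.toAlgHom A B (S ⧸ J))
    fun _ _ => .all _ _).toRingHom).comp (Algebra.IsPushout.equiv A p.ResidueField B B₁).symm.toRingEquiv.toRingHom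
  letI : Algebra B₁ (S ⧸ J) := ρ.toAlgebra
  haveI : IsScalarTower B B₁ (S ⧸ J) := IsScalarTower.of_algebraMap_eq fun b => by
    rw [RingHom.algebraMap_toAlgebra]
    simp [ρ, Algebra.IsPushout.equiv_symm_algebraMap_right]
  let eJ : (S ⧸ J) ⊗[S] N ≃ₗ[S ⧸ J] (S ⧸ J) ⊗[B₁] (B₁ ⊗[B] M) :=
    (AlgebraTensorModule.cancelBaseChange B S (S ⧸ J) (S ⧸ J) M).trans
      (AlgebraTensorModule.cancelBaseChange B B₁ (S ⧸ J) (S ⧸ J) M).symm
  haveI : Module.Invertible (S ⧸ J) ((S ⧸ J) ⊗[S] N) := Module.Invertible.congr eJ.symm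
  haveI hfree : Module.Free (S ⧸ J) ((S ⧸ J) ⊗[S] N) := inferInstance
  haveI : Nontrivial N := by
    by_contra hn
    rw [not_nontrivial_iff_subsingleton] at hn
    have h1 := Module.Invertible.finrank_eq_one (S ⧸ J) ((S ⧸ J) ⊗[S] N)
    rw [Module.finrank_zero_of_subsingleton] at h1
    exact zero_ne_one h1
  haveI : Module.Free S N := (Groth.Agent.S0394.result (R := R) (S := S) (M := N) hfree).1
  have hrk : Module.finrank S N = 1 := by
    rw [← Module.finrank_baseChange (R := S ⧸ J) (S := S) (M' := N)]
    exact Module.Invertible.finrank_eq_one (S ⧸ J) _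
  let eN : N ≃ₗ[S] S := (Module.basisUnique (Unit) hrk).equivFun.trans (LinearEquiv.funUnique Unit S S)
  let f : M →ₗ[B] S := (eN.toLinearMap.restrictScalars B).comp (TensorProduct.mk B S M 1)
  obtain ⟨m₀, hm₀⟩ : ∃ m, IsUnit (f m) := by
    by_contra hne
    push Not at hne
    have : ∀ z, eN z ∈ maximalIdeal S := fun z => by
      induction z using TensorProduct.induction_on with
      | zero => simp
      | add z z' hz hz' => rw [map_add]; exact add_mem hz hz'
      | tmul s m =>
        rw [← mul_one s, ← smul_eq_mul, ← TensorProduct.smul_tmul', map_smul]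
        exact Ideal.mul_mem_left _ _ (hne m)
    exact (maximalIdeal.isMaximal S).ne_top
      ((Ideal.eq_top_iff_one _).2 (by simpa using this (eN.symm 1)))
  haveI : Module.FinitePresentation B M := Module.finitePresentation_of_finite B M
  obtain ⟨g, s, hg⟩ := Module.FinitePresentation.exists_lift_of_isLocalizedModule Q.primeCompl
    (Algebra.linearMap B S) f
  haveI : IsLocalizedModule Q.primeCompl (TensorProduct.mk B S M 1) :=
    (isLocalizedModule_iff_isBaseChange Q.primeCompl S _).2 (TensorProduct.isBaseChange B M S)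
  refine ⟨m₀, g, fun hgQ => ?_, fun x => ?_⟩
  · have h1 : algebraMap B S (g m₀) = algebraMap B S s.1 * f m₀ := by
      rw [← Algebra.smul_def]
      exact LinearMap.congr_fun hg m₀
    have hu : IsUnit (algebraMap B S (g m₀)) := h1 ▸ (IsLocalization.map_units S s).mul hm₀
    exact (IsLocalization.AtPrime.isUnit_to_map_iff S Q (g m₀)).1 hu hgQ
  · obtain ⟨u, hu⟩ := hm₀
    obtain ⟨⟨a, t⟩, hat⟩ := IsLocalization.surj Q.primeCompl (f x * ↑u⁻¹)
    have heq : f (t.1 • x) = f (a • m₀) := by
      rw [map_smul, map_smul, Algebra.smul_def, Algebra.smul_def, ← hat, ← hu, mul_assoc,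
        mul_left_comm]
      ring_nf
      rw [mul_assoc, Units.inv_mul, mul_one]
    obtain ⟨c, hc⟩ := (IsLocalizedModule.eq_iff_exists Q.primeCompl (TensorProduct.mk B S M 1)).1
      (eN.injective heq)
    refine ⟨c.1 * t.1, fun hp => (hQ.isPrime.mem_or_mem hp).elim c.2 t.2, c.1 * a, ?_⟩
    rw [mul_smul, mul_smul]
    exact hc

end Groth.Agent.QFBC1
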