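import Groth.Agent.Lib.DiscNoether25.OmegaFlat

/-!
The étale-local finite free factor of a finite algebra at a prime where it is flat, packaged for reuse.
-/

set_option backward.isDefEq.respectTransparency.types false
set_option maxHeartbeats 300000

universe u

open TensorProduct
open scoped Groth.Agent.DiscNoether25

namespace Groth.Agent.QFBC1

open DiscNoether25

variable {A B : Type u} [CommRing A] [CommRing B] [Algebra A B]

/-- At a prime `q` where the finite algebra `B` is flat, a flat base change of `A` has an idempotent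
`e` cutting out a factor with a finite dual basis, and `e` detects vanishing at `q`. -/
theorem exists_local_factor [Module.Finite A B] [Module.FinitePresentation A B] (q : Ideal B)
    [q.IsPrime] [Module.Flat A (Localization.AtPrime q)] :
    ∃ (A' : Type u) (_ : CommRing A') (_ : Algebra A A') (_ : Module.Flat A A')
      (e : A' ⊗[A] B) (n : Type u) (_ : Fintype n) (y : n → A' ⊗[A] B)
      (δ : n → Module.Dual A' (A' ⊗[A] B)),
      (∀ z, e * z = ∑ i, δ i z • (e * y i)) ∧
      ∀ (P : Type u) [AddCommGroup P] [Module B P] [Module A P] [IsScalarTower A B P] (x : P),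
        ((LinearMap.toSpanSingleton B P x).restrictScalars A).lTensor A' e = 0 →
          ∃ s ∉ q, s • x = 0 := by
  classical
  let p := q.comap (algebraMap A B)
  haveI : q.LiesOver p := ⟨rfl⟩
  obtain ⟨R', _, _, _, P, _, _, e₀, he₀, P', _, _, hP'q, he₀P', -, -, huniq⟩ :=
    Algebra.exists_etale_isIdempotentElem_forall_liesOver_eq (S := B) p q
  let A' := Localization.AtPrime P
  haveI : Module.Flat A R' := inferInstance
  haveI : Module.Flat A A' := Module.Flat.trans A R' A'
  let ι : R' ⊗[A] B →ₐ[A] A' ⊗[A] B :=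
    Algebra.TensorProduct.map (IsScalarTower.toAlgHom A R' A') (AlgHom.id A B)
  let e := ι e₀
  have he : IsIdempotentElem e := he₀.map ι
  -- a prime of `A' ⊗ B` over `q` avoiding `e`
  let κ := P'.ResidueField
  let χ : R' ⊗[A] B →ₐ[A] κ := (IsScalarTower.toAlgHom A (R' ⊗[A] B) κ)
  have hχ0 : ∀ z, χ z = 0 ↔ z ∈ P' := fun z => Ideal.algebraMap_residueField_eq_zero
  have hunit : ∀ r : P.primeCompl, IsUnit ((χ.comp Algebra.TensorProduct.includeLeft) r.1) := fun r =>
    IsUnit.mk0 _ fun h => r.2 (by
      have := (hχ0 _).1 h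
      exact (SetLike.ext_iff.1 (P'.over_def P) r.1).2 this)
  let χA : A' →ₐ[A] κ := IsLocalization.liftAlgHom (M := P.primeCompl) hunit
  let χ' : A' ⊗[A] B →ₐ[A] κ :=
    Algebra.TensorProduct.lift χA (χ.comp Algebra.TensorProduct.includeRight) fun _ _ => .all _ _
  have hχ' : ∀ z, χ' (ι z) = χ z := fun z => by
    induction z using TensorProduct.induction_on with
    | zero => simp
    | add z z' hz hz' => rw [map_add, map_add, map_add, hz, hz']
    | tmul r b =>
      simp only [ι, Algebra.TensorProduct.map_tmul, χ', Algebra.TensorProduct.lift_tmul,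
        AlgHom.comp_apply, IsScalarTower.coe_toAlgHom', AlgHom.id_apply]
      rw [show χA (algebraMap R' A' r) = χ (r ⊗ₜ 1) from
        IsLocalization.lift_eq (M := P.primeCompl) _ _, Algebra.TensorProduct.includeRight_apply,
        ← map_mul, Algebra.TensorProduct.tmul_mul_tmul, mul_one, one_mul]
  have hχe : χ' e ≠ 0 := fun h => he₀P' ((hχ0 _).1 ((hχ' e₀).symm.trans h))
  have hχb : ∀ b ∈ q, χ' ((1 : A') ⊗ₜ[A] b) = 0 := fun b hb => by
    rw [show (1 : A') ⊗ₜ[A] b = ι ((1 : R') ⊗ₜ b) by simp [ι], hχ', hχ0]
    exact (SetLike.ext_iff.1 hP'q b).2 hb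
  -- the local factor
  let T := Localization.Away e
  have hsurj : Function.Surjective (algebraMap (A' ⊗[A] B) T) :=
    IsLocalization.Away.algebraMap_surjective_of_isIdempotentElem e he
  haveI : Module.Finite A' T :=
    Module.Finite.of_surjective (IsScalarTower.toAlgHom A' (A' ⊗[A] B) T).toLinearMap hsurj
  have hunitT : ∀ b : q.primeCompl,
      IsUnit ((((IsScalarTower.toAlgHom A (A' ⊗[A] B) T)).comp Algebra.TensorProduct.includeRight) b.1) := by
    intro b
    by_contra hb
    obtain ⟨m, hm, hbm⟩ := exists_max_ideal_of_mem_nonunits hb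
    have hover : (m.comap (algebraMap A' T)).IsMaximal :=
      Ideal.isMaximal_comap_of_isIntegral_of_isMaximal (R := A') m
    let P'' : Ideal (R' ⊗[A] B) := m.comap ((algebraMap (A' ⊗[A] B) T).comp ι.toRingHom)
    haveI : P''.IsPrime := Ideal.IsPrime.comap _
    haveI : P''.LiesOver P := ⟨by
      ext r
      rw [Ideal.mem_comap, Ideal.mem_comap, ← IsLocalization.AtPrime.to_map_mem_maximal_iff A' P r,
        ← IsLocalRing.eq_maximalIdeal hover, Ideal.mem_comap,
        IsScalarTower.algebraMap_apply A' (A' ⊗[A] B) T]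
      simp [ι, Algebra.TensorProduct.algebraMap_apply]⟩
    have heP : e₀ ∉ P'' := fun h =>
      hm.ne_top (Ideal.eq_top_of_isUnit_mem _ h (IsLocalization.Away.algebraMap_isUnit e))
    have hb' : (1 : R') ⊗ₜ[A] b.1 ∈ P'' := by
      rw [Ideal.mem_comap]
      simpa [ι] using hbm
    rw [huniq P'' inferInstance inferInstance heP] at hb'
    exact b.2 ((SetLike.ext_iff.1 hP'q b.1).1 hb')
  haveI : Module.Flat A' T := by
    let C := A' ⊗[A] Localization.AtPrime q
    let j : A' ⊗[A] B →ₐ[A'] C :=
      Algebra.TensorProduct.map (AlgHom.id A' A') (IsScalarTower.toAlgHom A B _)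
    let Ce := Localization.Away (j e)
    haveI : Module.Flat A' C := inferInstance
    haveI : Module.Flat A' Ce := Module.Flat.trans A' C Ce
    let a : T →ₐ[A'] Ce := IsLocalization.liftAlgHom (M := Submonoid.powers e)
      (f := (IsScalarTower.toAlgHom A' C Ce).comp j) (by
        rintro ⟨_, k, rfl⟩
        rw [map_pow]
        exact (IsLocalization.Away.algebraMap_isUnit (j e)).pow k)
    let c : C →ₐ[A'] T :=
      Algebra.TensorProduct.lift (Algebra.ofId A' T) (IsLocalization.liftAlgHom hunitT)
        fun _ _ => .all _ _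
    have hc : ∀ z, c (j z) = algebraMap (A' ⊗[A] B) T z := fun z => by
      induction z using TensorProduct.induction_on with
      | zero => simp
      | add z z' hz hz' => rw [map_add, map_add, map_add, hz, hz']
      | tmul r b =>
        rw [show c (j (r ⊗ₜ[A] b)) = algebraMap A' T r *
          (IsLocalization.liftAlgHom hunitT) (algebraMap B (Localization.AtPrime q) b) from rfl]
        rw [show (IsLocalization.liftAlgHom hunitT) (algebraMap B (Localization.AtPrime q) b) =
          algebraMap (A' ⊗[A] B) T (1 ⊗ₜ b) from IsLocalization.lift_eq (M := q.primeCompl) _ _,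
          IsScalarTower.algebraMap_apply A' (A' ⊗[A] B) T, ← map_mul]
        simp [Algebra.TensorProduct.algebraMap_apply]
    let b : Ce →ₐ[A'] T := IsLocalization.liftAlgHom (M := Submonoid.powers (j e)) (f := c) (by
      rintro ⟨_, k, rfl⟩
      rw [map_pow, hc]
      exact (IsLocalization.Away.algebraMap_isUnit e).pow k)
    refine Module.Flat.of_retract a.toLinearMap b.toLinearMap (LinearMap.ext fun t => ?_)
    obtain ⟨z, rfl⟩ := hsurj t
    change b (a (algebraMap (A' ⊗[A] B) T z)) = _
    rw [show a (algebraMap (A' ⊗[A] B) T z) = algebraMap C Ce (j z) from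
      IsLocalization.lift_eq (M := Submonoid.powers e) _ _,
      show b (algebraMap C Ce (j z)) = c (j z) from
      IsLocalization.lift_eq (M := Submonoid.powers (j e)) _ _, hc]
    rfl
  haveI : Module.Free A' T := Module.free_of_flat_of_isLocalRing
  let β := Module.Free.chooseBasis A' T
  choose y hy using fun i => hsurj (β i)
  let δ := fun i => (β.coord i).comp (IsScalarTower.toAlgHom A' (A' ⊗[A] B) T).toLinearMap
  have hfac : ∀ z, e * z = ∑ i, δ i z • (e * y i) := fun z => by
    have h0 : algebraMap (A' ⊗[A] B) T (z - ∑ i, δ i z • y i) = 0 := by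
      rw [map_sub, map_sum]
      have : ∀ i, algebraMap (A' ⊗[A] B) T (δ i z • y i) = δ i z • β i := fun i => by
        rw [← hy i]
        exact map_smul (IsScalarTower.toAlgHom A' (A' ⊗[A] B) T) _ _
      simp only [this]
      rw [sub_eq_zero]
      exact (β.sum_repr _).symm
    obtain ⟨⟨_, k, rfl⟩, hk⟩ := (IsLocalization.map_eq_zero_iff (Submonoid.powers e) T _).1 h0
    have : e * (z - ∑ i, δ i z • y i) = 0 := by
      have h1 := congrArg (e * ·) hk
      simp only [mul_zero, ← mul_assoc, ← pow_succ'] at h1
      rwa [he.pow_succ_eq] at h1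
    rw [mul_sub, sub_eq_zero, Finset.mul_sum] at this
    simp only [mul_smul_comm] at this
    exact this
  refine ⟨A', inferInstance, inferInstance, inferInstance, e, _, inferInstance, y, δ, hfac, ?_⟩
  intro P _ _ _ _ x hkill
  let ν := (LinearMap.toSpanSingleton B P x).restrictScalars A
  by_contra hne
  push Not at hne
  have hI : ∀ b : B, b • x = 0 → b ∈ q := fun b hb => by
    by_contra h
    exact hne b h hb
  have hexact : Function.Exact ((LinearMap.ker ν).subtype.lTensor A') (ν.lTensor A') :=
    Module.Flat.lTensor_exact A' (LinearMap.exact_subtype_ker_map ν)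
  obtain ⟨w, hw⟩ := (hexact e).1 hkill
  refine hχe ?_
  rw [← hw]
  clear hw
  induction w using TensorProduct.induction_on with
  | zero => simp
  | add w w' h h' => rw [map_add, map_add, h, h', add_zero]
  | tmul r b =>
    rw [LinearMap.lTensor_tmul]
    have h1 : (r ⊗ₜ[A] (b : B) : A' ⊗[A] B) = (r ⊗ₜ 1) * (1 ⊗ₜ (b : B)) := by simp
    change χ' (r ⊗ₜ[A] (b : B)) = 0
    rw [h1, map_mul, hχb (b : B) (hI (b : B) b.2), mul_zero]

end Groth.Agent.QFBC1
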